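import Groth.Agent.SquareRel51.Square
import Groth.Agent.ProperFin.PnBase
import Groth.Prelude.Def_AlgEqCyc

/-!
# The difference of two points of a curve mapped to a scheme is algebraically trivial
-/

set_option autoImplicit false
set_option backward.isDefEq.respectTransparency.types false

universe u

open CategoryTheory CategoryTheory.Limits AlgebraicGeometry

noncomputable section

namespace Groth.Agent.SquareRel51.GraphCycle

open scoped Classical

theorem specMap_injective {C : Scheme.{u}} [IsIntegral C] (c : C) (h : genericPoint C ⤳ c) :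
    Function.Injective (Cyc.specMap c (genericPoint C) h) := by
  have hi : Function.Injective (C.presheaf.stalkSpecializes h) :=
    IsFractionRing.injective (C.presheaf.stalk c) C.functionField
  have hres : Function.Injective (C.residue (genericPoint C)) :=
    (C.residue (genericPoint C)).hom.injective
  exact hres.comp hi

theorem fibreMult_graph {C P : Scheme.{u}} [IsIntegral C] (g : P ⟶ C) (γ : C ⟶ P) [IsClosedImmersion γ]
    (hγ : γ ≫ g = 𝟙 C) (c : C) (h : γ (genericPoint C) ⤳ γ c) :
    AlgEqCyc.fibreMult g (γ c) (γ (genericPoint C)) h = 1 := by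
  let η := genericPoint C
  have hηc : η ⤳ c := genericPoint_specializes c
  let φ := γ.stalkMap c
  have hφ : Function.Surjective φ.hom := γ.stalkMap_surjective c
  -- the kernel of `O_{P,γ c} → κ(γ η)` is that of the stalk map
  have hsq : ∀ a, γ.residueFieldMap η (Cyc.specMap (γ c) (γ η) h a) = Cyc.specMap c η hηc (φ.hom a) := by
    intro a
    show γ.residueFieldMap η (P.residue (γ η) (P.presheaf.stalkSpecializes h a)) =
      C.residue η (C.presheaf.stalkSpecializes hηc (γ.stalkMap c a))
    rw [← CommRingCat.comp_apply, Scheme.residue_residueFieldMap, CommRingCat.comp_apply,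
      Scheme.Hom.stalkSpecializes_stalkMap_apply γ η c hηc]
  have hker : RingHom.ker (Cyc.specMap (γ c) (γ η) h) = RingHom.ker φ.hom := by
    ext a
    rw [RingHom.mem_ker, RingHom.mem_ker, ← map_eq_zero_iff _ (γ.residueFieldMap η).hom.injective, hsq,
      map_eq_zero_iff _ (specMap_injective c hηc)]
  let R := P.presheaf.stalk (γ c)
  let I := RingHom.ker (Cyc.specMap (γ c) (γ η) h)
  let J := (IsLocalRing.maximalIdeal (C.presheaf.stalk (g (γ c)))).map
    ((Ideal.Quotient.mk I).comp (g.stalkMap (γ c)).hom)
  let π : R →ₗ[R] (R ⧸ I) ⧸ J :=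
    ((Submodule.mkQ (Submodule.restrictScalars R J)).comp (Submodule.mkQ I)).restrictScalars R
  have hπs : Function.Surjective π := fun z => by
    obtain ⟨z, rfl⟩ := Ideal.Quotient.mk_surjective z
    obtain ⟨z, rfl⟩ := Ideal.Quotient.mk_surjective z
    exact ⟨z, rfl⟩
  have hπk : LinearMap.ker π = IsLocalRing.maximalIdeal R := by
    refine le_antisymm ?_ ?_
    · refine IsLocalRing.le_maximalIdeal fun htop => ?_
      have h1 : (1 : R) ∈ LinearMap.ker π := htop ▸ Submodule.mem_top
      have hI : Ideal.Quotient.mk I 1 ∈ J := (Submodule.Quotient.mk_eq_zero _).mp h1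
      have hle : J ≤ (IsLocalRing.maximalIdeal R).map (Ideal.Quotient.mk I) := by
        show Ideal.map _ _ ≤ _
        rw [← Ideal.map_map]
        exact Ideal.map_mono (((IsLocalRing.local_hom_TFAE (g.stalkMap (γ c)).hom).out 0 2).1 (inferInstance : IsLocalHom (g.stalkMap (γ c)).hom))
      have hI' : I ≤ IsLocalRing.maximalIdeal R := IsLocalRing.le_maximalIdeal (RingHom.ker_ne_top _)
      have := (Ideal.mem_quotient_iff_mem hI').mp (hle hI)
      exact (IsLocalRing.maximalIdeal.isMaximal R).ne_top ((Ideal.eq_top_iff_one _).mpr this)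
    · intro a ha
      have hb : φ.hom a ∈ IsLocalRing.maximalIdeal (C.presheaf.stalk c) := map_nonunit φ.hom a ha
      have hid : ∀ b, φ.hom ((g.stalkMap (γ c)).hom b) = (γ ≫ g).stalkMap c b := fun b =>
        by rw [Scheme.Hom.stalkMap_comp]; rfl
      have hiso : IsIso ((γ ≫ g).stalkMap c) := by rw [hγ]; infer_instance
      obtain ⟨b, hb'⟩ := (ConcreteCategory.bijective_of_isIso ((γ ≫ g).stalkMap c)).2 (φ.hom a)
      have hbm : b ∈ IsLocalRing.maximalIdeal (C.presheaf.stalk (g (γ c))) := by
        show b ∈ nonunits _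
        exact fun hu => (IsLocalRing.mem_maximalIdeal _).mp hb (hb' ▸ hu.map ((γ ≫ g).stalkMap c).hom)
      show Submodule.Quotient.mk (Ideal.Quotient.mk I a) = 0
      rw [Submodule.Quotient.mk_eq_zero]
      show Ideal.Quotient.mk I a ∈ J
      have hk : Ideal.Quotient.mk I a = Ideal.Quotient.mk I ((g.stalkMap (γ c)).hom b) := by
        rw [Ideal.Quotient.eq, show I = RingHom.ker φ.hom from hker, RingHom.mem_ker, map_sub, hid, hb',
          sub_self]
      rw [hk]
      exact Ideal.mem_map_of_mem _ hbm
  have hlen : Module.length R ((R ⧸ I) ⧸ J) = 1 := by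
    rw [← (LinearMap.quotKerEquivOfSurjective π hπs).length_eq, hπk, Module.length_eq_one_iff]
    exact isSimpleModule_iff_isCoatom.mpr (IsLocalRing.maximalIdeal.isMaximal R).out
  show ENat.toNat (Module.length R ((R ⧸ I) ⧸ J)) = 1
  rw [hlen]
  rfl

variable {k : Type u} [Field k]

/-- **The graph construction.** -/
theorem isElemAlgTriv {X C : Scheme.{u}} (p : X ⟶ Spec (CommRingCat.of k)) [IsSeparated p]
    (q : C ⟶ Spec (CommRingCat.of k)) [Smooth q] [IsIntegral C] (hd : topologicalKrullDim C = 1)
    (hproj : ∃ (n : ℕ) (i : C ⟶ CohB1.ProjSpace n k), IsClosedImmersion i ∧ i ≫ CohB1.ProjSpace.toSpec n k = q)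
    (g : C ⟶ X) (hg : g ≫ p = q) (t₁ t₂ : Spec (CommRingCat.of k) ⟶ C) (h₁ : t₁ ≫ q = 𝟙 _) (h₂ : t₂ ≫ q = 𝟙 _) :
    AlgEqCyc.IsElemAlgTriv p
      (Function.locallyFinsuppWithin.single (g (t₁ (IsLocalRing.closedPoint k))) (1 : ℤ) -
        Function.locallyFinsuppWithin.single (g (t₂ (IsLocalRing.closedPoint k))) (1 : ℤ)) := by
  obtain ⟨n, i, hi, hiw⟩ := hproj
  refine ⟨C, q, inferInstance, ?_, inferInstance, hd, ?_⟩
  · obtain ⟨e, he⟩ := Groth.Agent.ProperFin.exists_iso_projSpaceOver n k
    exact ⟨n, i ≫ e.inv, inferInstance, by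
      show (i ≫ e.inv) ≫ CohB1.ProjSpaceOver.toBase n _ = q
      rw [← hiw, Category.assoc]
      congr 1
      rw [Iso.inv_comp_eq]
      exact he.symm⟩
  let γ : C ⟶ pullback p q := pullback.lift g (𝟙 C) (by rw [hg, Category.id_comp])
  have hγs : γ ≫ pullback.snd p q = 𝟙 C := pullback.lift_snd _ _ _
  have hγf : γ ≫ pullback.fst p q = g := pullback.lift_fst _ _ _
  have : IsClosedImmersion (γ ≫ pullback.snd p q) := by rw [hγs]; infer_instance
  have : IsClosedImmersion γ := IsClosedImmersion.of_comp γ (pullback.snd p q)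
  let w := γ (genericPoint C)
  let W : AlgebraicCycle (pullback p q) ℤ := Function.locallyFinsuppWithin.single w (1 : ℤ)
  have hW : ∀ z, W z ≠ 0 → z = w := fun z hz => by
    by_contra hne
    simp [W, hne] at hz
  refine ⟨W, fun z hz => ?_, t₁, t₂, h₁, h₂, fun x => ?_⟩
  · rw [hW z hz, show w = γ (genericPoint C) from rfl, ← Scheme.Hom.comp_apply, hγs]
    exact genericPoint_closure (α := C)
  have key : ∀ (t : Spec (CommRingCat.of k) ⟶ C) (ht : t ≫ q = 𝟙 _),
      AlgEqCyc.fibreFun p q W t ht x = if x = g (t (IsLocalRing.closedPoint k)) then 1 else 0 := by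
    intro t ht
    have hpt : ∀ z : Spec (CommRingCat.of k), z = IsLocalRing.closedPoint k :=
      fun z => (inferInstance : Subsingleton (PrimeSpectrum k)).elim z _
    have hs : AlgEqCyc.slice p q t ht (g (t (IsLocalRing.closedPoint k))) = γ (t (IsLocalRing.closedPoint k)) := by
      have e : (t ≫ g) ≫ AlgEqCyc.slice p q t ht = t ≫ γ := by
        apply pullback.hom_ext
        · rw [Category.assoc, Category.assoc, Category.assoc, hγf,
            show AlgEqCyc.slice p q t ht ≫ pullback.fst p q = 𝟙 X from pullback.lift_fst _ _ _,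
            Category.comp_id]
        · simp only [AlgEqCyc.slice, γ, Category.assoc, pullback.lift_snd, Category.comp_id]
          rw [← Category.assoc g p t, hg, ← Category.assoc, ht, Category.id_comp]
      exact congrArg (fun m : Spec (CommRingCat.of k) ⟶ pullback p q => m (IsLocalRing.closedPoint k)) e
    have es : AlgEqCyc.slice p q t ht ≫ pullback.fst p q = 𝟙 X := pullback.lift_fst _ _ _
    have es' : AlgEqCyc.slice p q t ht ≫ pullback.snd p q = p ≫ t := pullback.lift_snd _ _ _
    by_cases hx : x = g (t (IsLocalRing.closedPoint k))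
    · subst hx
      have hsp : w ⤳ AlgEqCyc.slice p q t ht (g (t (IsLocalRing.closedPoint k))) := by
        rw [hs]; exact (genericPoint_specializes _).map γ.continuous
      rw [if_pos rfl, AlgEqCyc.fibreFun, finsum_eq_single _ ⟨w, by simp [W], hsp⟩
        fun z hz => absurd (Subtype.ext (hW z.1 z.2.1)) hz]
      have hm : ∀ (v : ↥(pullback p q)) (h : w ⤳ v), v = γ (t (IsLocalRing.closedPoint k)) →
          AlgEqCyc.fibreMult (pullback.snd p q) v w h = 1 := by
        rintro v h rfl
        exact fibreMult_graph _ γ hγs _ h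
      rw [hm _ hsp hs]
      simp [W]
    · rw [if_neg hx, AlgEqCyc.fibreFun]
      refine finsum_eq_zero_of_forall_eq_zero fun z => absurd ?_ hx
      have hz : w ⤳ AlgEqCyc.slice p q t ht x := (hW z.1 z.2.1) ▸ z.2.2
      obtain ⟨c, hc⟩ := hz.mem_closed γ.isClosedEmbedding.isClosed_range ⟨_, rfl⟩
      have e1 : g c = x := by
        have h := congrArg (fun v => pullback.fst p q v) hc
        simp only [← Scheme.Hom.comp_apply] at h
        rw [hγf, es] at h
        exact h
      have e2 : c = t (IsLocalRing.closedPoint k) := by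
        have h := congrArg (fun v => pullback.snd p q v) hc
        simp only [← Scheme.Hom.comp_apply] at h
        rw [hγs, es'] at h
        exact h.trans (congrArg (fun z => t z) (hpt (p x)))
      rw [← e1, e2]
  rw [key t₁ h₁, key t₂ h₂]
  simp only [Function.locallyFinsuppWithin.coe_sub, Pi.sub_apply, Function.locallyFinsuppWithin.single_apply]

end Groth.Agent.SquareRel51.GraphCycle
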